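import Groth.Agent.FiltDerived.Resolution
import Groth.Agent.TriH.CountableSum
import Groth.Agent.DerAdj.RFTriangle

/-!
# Cohomology of a derived functor on filtered colimits of uniformly bounded below complexes
-/

set_option autoImplicit false
set_option linter.style.haveILetI false

universe t w w' v v' u u'

open CategoryTheory CategoryTheory.Limits

namespace Groth.Agent.FiltDerived

variable {J : Type t} [SmallCategory J] {A : Type u} [Category.{v} A] [Abelian A] [EnoughInjectives A]
  [HasProducts.{t} A] [HasColimitsOfShape J A] [HasExactColimitsOfShape J A] [HasDerivedCategory.{w} A]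
  {B : Type u'} [Category.{v'} B] [Abelian B] [HasColimitsOfShape J B] [HasExactColimitsOfShape J B]
  [HasDerivedCategory.{w'} B]
  (F : A ⥤ B) [F.Additive] [PreservesFiniteLimits F] [PreservesColimitsOfShape J F]
  (hKinj : ∀ K : CochainComplex A ℤ, ∃ (I : CochainComplex A ℤ) (f : K ⟶ I), I.IsKInjective ∧ QuasiIso f)
  [(F.mapHomotopyCategory (ComplexShape.up ℤ) ⋙ DerivedCategory.Qh).HasRightDerivedFunctor
    (HomotopyCategory.quasiIso A (ComplexShape.up ℤ))]

/-- The comparison `F(K) ⟶ RF(K)`, natural in the complex `K`. -/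
noncomputable def cmp : F.mapHomologicalComplex (ComplexShape.up ℤ) ⋙ DerivedCategory.Q ⟶
    DerivedCategory.Q ⋙ DerAdj.RFun F :=
  Functor.whiskerLeft _ (DerivedCategory.quotientCompQhIso B).inv ≫ (Functor.associator _ _ _).inv ≫
    Functor.whiskerRight (F.mapHomotopyCategoryFactors (ComplexShape.up ℤ)).inv _ ≫ (Functor.associator _ _ _).hom ≫
    Functor.whiskerLeft _ (TriH.CountableSum.unit F) ≫ (Functor.associator _ _ _).inv ≫
    Functor.whiskerRight (DerivedCategory.quotientCompQhIso A).hom _

lemma isIso_cmp_app (K : CochainComplex A ℤ)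
    (h : IsIso ((TriH.CountableSum.unit F).app ((HomotopyCategory.quotient A (ComplexShape.up ℤ)).obj K))) :
    IsIso ((cmp F).app K) := by
  haveI := h
  simp only [cmp, NatTrans.comp_app, Functor.whiskerLeft_app, Functor.whiskerRight_app,
    Functor.associator_inv_app, Functor.associator_hom_app, Category.id_comp, Category.comp_id]
  infer_instance

include hKinj in
/-- `Hⁱ(RF -)` commutes with colimits of uniformly bounded below complexes, when colimits of injectives are
acyclic and `F` commutes with colimits. -/
theorem nonempty_isColimit_homology_RF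
    (hacyc : ∀ (G : J ⥤ A) (c : Cocone G), IsColimit c → (∀ j, Injective (G.obj j)) →
      TriH.IsAcyclicObj F c.pt)
    (C : J ⥤ CochainComplex A ℤ) (c : Cocone C) (hc : IsColimit c) (n : ℤ) (hC : ∀ j, (C.obj j).IsGE n) (i : ℤ) :
    Nonempty (IsColimit ((DerivedCategory.Q ⋙ DerAdj.RFun F ⋙ DerivedCategory.homologyFunctor B i).mapCocone c)) := by
  obtain ⟨I, s, hs, hIge, hIinj⟩ := exists_resolution C n hC
  let cI := colimit.cocone I
  let G := DerivedCategory.Q ⋙ DerAdj.RFun F ⋙ DerivedCategory.homologyFunctor B i
  let t : c.pt ⟶ cI.pt := hc.desc ((Cocone.precompose s).obj cI)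
  have ht : ∀ j, c.ι.app j ≫ t = s.app j ≫ cI.ι.app j := fun j => hc.fac ((Cocone.precompose s).obj cI) j
  haveI hh : ∀ k, PreservesColimitsOfShape J (HomologicalComplex.homologyFunctor A (ComplexShape.up ℤ) k) :=
    fun k => preservesColimitsOfShape_homologyFunctor _ k
  haveI htq : QuasiIso t := by
    rw [quasiIso_iff]
    intro k
    rw [quasiIsoAt_iff_isIso_homologyMap]
    let H := HomologicalComplex.homologyFunctor A (ComplexShape.up ℤ) k
    haveI : ∀ j, IsIso ((Functor.whiskerRight s H).app j) := fun j => by
      haveI := hs j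
      exact inferInstanceAs (IsIso (HomologicalComplex.homologyMap (s.app j) k))
    haveI : IsIso (Functor.whiskerRight s H) := NatIso.isIso_of_isIso_app _
    let e := IsColimit.coconePointsIsoOfNatIso (isColimitOfPreserves H hc)
      (isColimitOfPreserves H (colimit.isColimit I)) (asIso (Functor.whiskerRight s H))
    have he : H.map t = e.hom := by
      refine (isColimitOfPreserves H hc).hom_ext fun j => ?_
      refine Eq.trans ?_ (IsColimit.comp_coconePointsIsoOfNatIso_hom (isColimitOfPreserves H hc)
        (isColimitOfPreserves H (colimit.isColimit I)) (asIso (Functor.whiskerRight s H)) j).symm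
      show H.map (c.ι.app j) ≫ H.map t = H.map (s.app j) ≫ H.map (cI.ι.app j)
      rw [← H.map_comp, ← H.map_comp, ht]
    show IsIso (H.map t)
    rw [he]
    infer_instance
  have hX : ∀ m, IsColimit ((HomologicalComplex.eval A (ComplexShape.up ℤ) m).mapCocone cI) := fun m =>
    isColimitOfPreserves _ (colimit.isColimit I)
  haveI : CochainComplex.IsStrictlyGE cI.pt n := by
    rw [CochainComplex.isStrictlyGE_iff]
    intro m hm
    rw [IsZero.iff_id_eq_zero]
    refine (hX m).hom_ext fun j => ?_
    exact (haveI := hIge j; (I.obj j).isZero_of_isStrictlyGE n m hm).eq_of_src _ _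
  haveI : ∀ j, IsIso ((cmp F).app (I.obj j)) := fun j => by
    haveI := hIge j
    refine isIso_cmp_app F _ (TriH.CountableSum.isIso_unit_of_isStrictlyGE F hKinj (I.obj j) n fun m => ?_)
    haveI := hIinj j m
    exact TriH.isAcyclicObj_of_injective F _
  haveI : IsIso ((cmp F).app cI.pt) :=
    isIso_cmp_app F _ (TriH.CountableSum.isIso_unit_of_isStrictlyGE F hKinj cI.pt n fun m =>
      hacyc _ _ (hX m) fun j => hIinj j m)
  let Φ := F.mapHomologicalComplex (ComplexShape.up ℤ) ⋙ HomologicalComplex.homologyFunctor B (ComplexShape.up ℤ) i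
  haveI : PreservesColimitsOfShape J (F.mapHomologicalComplex (ComplexShape.up ℤ)) :=
    HomologicalComplex.preservesColimitsOfShape_of_eval _ fun m =>
      show PreservesColimitsOfShape J (HomologicalComplex.eval A (ComplexShape.up ℤ) m ⋙ F) from inferInstance
  haveI := preservesColimitsOfShape_homologyFunctor (J := J) (A := B) (ComplexShape.up ℤ) i
  let θ : Φ ⟶ G := Functor.whiskerLeft _ (DerivedCategory.homologyFunctorFactors B i).inv ≫
    (Functor.associator _ _ _).inv ≫ Functor.whiskerRight (cmp F) _ ≫ (Functor.associator _ _ _).hom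
  have hθ : ∀ K, IsIso ((cmp F).app K) → IsIso (θ.app K) := fun K h => by
    haveI := h
    simp only [θ, NatTrans.comp_app, Functor.whiskerLeft_app, Functor.whiskerRight_app,
      Functor.associator_inv_app, Functor.associator_hom_app, Category.id_comp, Category.comp_id]
    infer_instance
  haveI : ∀ j, IsIso (G.map (s.app j)) := fun j => by
    haveI := hs j
    haveI : IsIso (DerivedCategory.Q.map (s.app j)) := inferInstance
    exact Functor.map_isIso (DerAdj.RFun F ⋙ DerivedCategory.homologyFunctor B i) (DerivedCategory.Q.map (s.app j))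
  haveI : IsIso (G.map t) := by
    haveI : IsIso (DerivedCategory.Q.map t) := inferInstance
    exact Functor.map_isIso (DerAdj.RFun F ⋙ DerivedCategory.homologyFunctor B i) (DerivedCategory.Q.map t)
  haveI : ∀ j, IsIso (θ.app (I.obj j)) := fun j => hθ _ inferInstance
  haveI : IsIso (θ.app cI.pt) := hθ _ inferInstance
  let α : C ⋙ G ≅ I ⋙ Φ := NatIso.ofComponents (fun j => asIso (G.map (s.app j)) ≪≫ (asIso (θ.app (I.obj j))).symm)
    (fun {j k} g => by
      show G.map (C.map g) ≫ G.map (s.app k) ≫ inv (θ.app (I.obj k)) =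
        (G.map (s.app j) ≫ inv (θ.app (I.obj j))) ≫ Φ.map (I.map g)
      rw [← G.map_comp_assoc, s.naturality g, G.map_comp, Category.assoc, Category.assoc]
      congr 1
      rw [IsIso.comp_inv_eq, Category.assoc, IsIso.eq_inv_comp]
      exact (θ.naturality (I.map g)).symm)
  refine ⟨(IsColimit.equivOfNatIsoOfIso α.symm (Φ.mapCocone cI) (G.mapCocone c)
    (Cocone.ext (asIso (θ.app cI.pt) ≪≫ (asIso (G.map t)).symm) fun j => ?_))
    (isColimitOfPreserves Φ (colimit.isColimit I))⟩
  show (α.hom.app j ≫ Φ.map (cI.ι.app j)) ≫ θ.app cI.pt ≫ inv (G.map t) = G.map (c.ι.app j)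
  rw [← Category.assoc, IsIso.comp_inv_eq, ← G.map_comp, ht, G.map_comp]
  show (((G.map (s.app j) ≫ inv (θ.app (I.obj j))) ≫ Φ.map (cI.ι.app j)) ≫ θ.app cI.pt) = _
  rw [Category.assoc, Category.assoc]
  exact congrArg (G.map (s.app j) ≫ ·) ((IsIso.inv_comp_eq _).2 (θ.naturality (cI.ι.app j)))

lemma isIso_unit_of_cmp (K : CochainComplex A ℤ) (h : IsIso ((cmp F).app K)) :
    IsIso ((TriH.CountableSum.unit F).app ((HomotopyCategory.quotient A (ComplexShape.up ℤ)).obj K)) := by
  haveI := h
  have e : (cmp F).app K = ((DerivedCategory.quotientCompQhIso B).inv.app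
      ((F.mapHomologicalComplex (ComplexShape.up ℤ)).obj K) ≫
      DerivedCategory.Qh.map ((F.mapHomotopyCategoryFactors (ComplexShape.up ℤ)).inv.app K)) ≫
      (TriH.CountableSum.unit F).app ((HomotopyCategory.quotient A (ComplexShape.up ℤ)).obj K) ≫
      (DerAdj.RFun F).map ((DerivedCategory.quotientCompQhIso A).hom.app K) := by
    simp only [cmp, NatTrans.comp_app, Functor.whiskerLeft_app, Functor.whiskerRight_app,
      Functor.associator_inv_app, Functor.associator_hom_app, Category.id_comp, Category.comp_id, Category.assoc]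
  rw [e] at h
  haveI := h
  haveI := IsIso.of_isIso_comp_left ((DerivedCategory.quotientCompQhIso B).inv.app
      ((F.mapHomologicalComplex (ComplexShape.up ℤ)).obj K) ≫
      DerivedCategory.Qh.map ((F.mapHomotopyCategoryFactors (ComplexShape.up ℤ)).inv.app K))
      ((TriH.CountableSum.unit F).app ((HomotopyCategory.quotient A (ComplexShape.up ℤ)).obj K) ≫
      (DerAdj.RFun F).map ((DerivedCategory.quotientCompQhIso A).hom.app K))
  exact IsIso.of_isIso_comp_right _ ((DerAdj.RFun F).map ((DerivedCategory.quotientCompQhIso A).hom.app K))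

include hKinj in
/-- Termwise computation of `RF` passes to colimits of uniformly bounded below complexes. -/
theorem isIso_unit_colimit
    (hacyc : ∀ (G : J ⥤ A) (c : Cocone G), IsColimit c → (∀ j, Injective (G.obj j)) →
      TriH.IsAcyclicObj F c.pt)
    (C : J ⥤ CochainComplex A ℤ) (c : Cocone C) (hc : IsColimit c) (n : ℤ) (hC : ∀ j, (C.obj j).IsGE n)
    (hU : ∀ j, IsIso ((TriH.CountableSum.unit F).app ((HomotopyCategory.quotient A (ComplexShape.up ℤ)).obj (C.obj j)))) :
    IsIso ((TriH.CountableSum.unit F).app ((HomotopyCategory.quotient A (ComplexShape.up ℤ)).obj c.pt)) := by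
  refine isIso_unit_of_cmp F _ ?_
  rw [DerivedCategory.isIso_iff]
  intro i
  obtain ⟨hG⟩ := nonempty_isColimit_homology_RF F hKinj hacyc C c hc n hC i
  let Φ := F.mapHomologicalComplex (ComplexShape.up ℤ) ⋙ DerivedCategory.Q ⋙ DerivedCategory.homologyFunctor B i
  let G := DerivedCategory.Q ⋙ DerAdj.RFun F ⋙ DerivedCategory.homologyFunctor B i
  let θ : Φ ⟶ G := (Functor.associator _ _ _).inv ≫ Functor.whiskerRight (cmp F) _ ≫ (Functor.associator _ _ _).hom
  haveI : PreservesColimitsOfShape J (F.mapHomologicalComplex (ComplexShape.up ℤ)) :=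
    HomologicalComplex.preservesColimitsOfShape_of_eval _ fun m =>
      show PreservesColimitsOfShape J (HomologicalComplex.eval A (ComplexShape.up ℤ) m ⋙ F) from inferInstance
  haveI := preservesColimitsOfShape_homologyFunctor (J := J) (A := B) (ComplexShape.up ℤ) i
  haveI : PreservesColimitsOfShape J (DerivedCategory.Q ⋙ DerivedCategory.homologyFunctor B i) :=
    preservesColimitsOfShape_of_natIso (DerivedCategory.homologyFunctorFactors B i).symm
  have hθ : ∀ K, θ.app K = (DerivedCategory.homologyFunctor B i).map ((cmp F).app K) := fun K => by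
    simp only [θ, NatTrans.comp_app, Functor.whiskerRight_app, Functor.associator_inv_app, Functor.associator_hom_app, Category.comp_id]
    exact Category.id_comp _
  haveI : ∀ j, IsIso ((Functor.whiskerLeft C θ).app j) := fun j => by
    haveI := isIso_cmp_app F (C.obj j) (hU j)
    show IsIso (θ.app (C.obj j))
    rw [hθ]
    infer_instance
  haveI : IsIso (Functor.whiskerLeft C θ) := NatIso.isIso_of_isIso_app _
  let e := IsColimit.coconePointsIsoOfNatIso (isColimitOfPreserves Φ hc) hG (asIso (Functor.whiskerLeft C θ))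
  have he : θ.app c.pt = e.hom := by
    refine (isColimitOfPreserves Φ hc).hom_ext fun j => ?_
    refine Eq.trans ?_ (IsColimit.comp_coconePointsIsoOfNatIso_hom (isColimitOfPreserves Φ hc) hG
      (asIso (Functor.whiskerLeft C θ)) j).symm
    exact θ.naturality (c.ι.app j)
  rw [← hθ, he]
  infer_instance

end Groth.Agent.FiltDerived
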