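import Mathlib

/-!
# Homology commutes with exact colimits
-/

set_option autoImplicit false
set_option linter.style.haveILetI false

universe w v v' u u'

open CategoryTheory CategoryTheory.Limits

namespace Groth.Agent.FiltDerived

variable {J : Type w} [Category.{w} J] {A : Type u} [Category.{v} A] [Abelian A]

/-- Exactness in a functor category is pointwise. -/
theorem exact_of_app (S : ShortComplex (J ⥤ A)) (h : ∀ j, (S.map ((evaluation J A).obj j)).Exact) : S.Exact := by
  rw [S.exact_iff_isZero_homology]
  exact Functor.isZero _ fun j =>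
    ((ShortComplex.exact_iff_isZero_homology _).1 (h j)).of_iso
      (S.mapHomologyIso ((evaluation J A).obj j)).symm

variable [HasColimitsOfShape J A] [HasExactColimitsOfShape J A]

/-- `colim` preserves exactness. -/
theorem colim_exact {S : ShortComplex (J ⥤ A)} (h : S.Exact) : (S.map (colim : (J ⥤ A) ⥤ A)).Exact :=
  h.map colim

variable {C : Type u'} [Category.{v'} C] {K G H : C ⥤ A} (σ : K ⟶ G) (τ : G ⟶ H) (w : σ ≫ τ = 0)

include w in
lemma whisker_comp_eq_zero (D : J ⥤ C) : Functor.whiskerLeft D σ ≫ Functor.whiskerLeft D τ = 0 := by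
  rw [← Functor.whiskerLeft_comp, w]
  rfl

/-- A kernel of colimit preserving functors preserves exact colimits. -/
theorem preserves_of_mono (hσ : ∀ X, Mono (σ.app X))
    (hex : ∀ X, (ShortComplex.mk (σ.app X) (τ.app X) (by rw [← NatTrans.comp_app, w]; rfl)).Exact)
    [PreservesColimitsOfShape J G] [PreservesColimitsOfShape J H] : PreservesColimitsOfShape J K where
  preservesColimit {D} := ⟨fun {c} hc => by
    let φK : colimit (D ⋙ K) ⟶ K.obj c.pt := colimit.desc _ (K.mapCocone c)
    let φG : colimit (D ⋙ G) ⟶ G.obj c.pt := colimit.desc _ (G.mapCocone c)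
    let φH : colimit (D ⋙ H) ⟶ H.obj c.pt := colimit.desc _ (H.mapCocone c)
    haveI : IsIso φG := inferInstanceAs (IsIso
      ((colimit.isColimit _).coconePointUniqueUpToIso (isColimitOfPreserves G hc)).hom)
    haveI : IsIso φH := inferInstanceAs (IsIso
      ((colimit.isColimit _).coconePointUniqueUpToIso (isColimitOfPreserves H hc)).hom)
    let a : colimit (D ⋙ K) ⟶ colimit (D ⋙ G) := colim.map (Functor.whiskerLeft D σ)
    let b : colimit (D ⋙ G) ⟶ colimit (D ⋙ H) := colim.map (Functor.whiskerLeft D τ)
    have ha : a ≫ φG = φK ≫ σ.app c.pt := by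
      ext j
      simp [a, φG, φK]
    have hb : b ≫ φH = φG ≫ τ.app c.pt := by
      ext j
      simp [b, φG, φH]
    haveI : ∀ j, Mono ((Functor.whiskerLeft D σ).app j) := fun j => hσ (D.obj j)
    haveI : Mono (Functor.whiskerLeft D σ) := NatTrans.mono_of_mono_app _
    haveI : Mono a := inferInstanceAs (Mono ((colim : (J ⥤ A) ⥤ A).map _))
    have hab : (ShortComplex.mk a b (by
        rw [← Functor.map_comp, whisker_comp_eq_zero σ τ w, Functor.map_zero])).Exact :=
      colim_exact (exact_of_app (ShortComplex.mk _ _ (whisker_comp_eq_zero σ τ w D)) fun j => hex (D.obj j))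
    haveI := hσ c.pt
    haveI : Mono (φK ≫ σ.app c.pt) := ha ▸ inferInstance
    haveI : Mono φK := mono_of_mono φK (σ.app c.pt)
    have hr : (σ.app c.pt ≫ inv φG) ≫ b = 0 := by
      rw [← cancel_mono φH, Category.assoc, hb, Category.assoc, IsIso.inv_hom_id_assoc, zero_comp,
        ← NatTrans.comp_app, w]
      rfl
    obtain ⟨s, hs⟩ := KernelFork.IsLimit.lift' hab.fIsKernel _ hr
    have hs' : s ≫ a = σ.app c.pt ≫ inv φG := hs
    haveI : Epi φK := epi_of_epi_fac (show s ≫ φK = 𝟙 _ by
      rw [← cancel_mono (σ.app c.pt), Category.assoc, ← ha, ← Category.assoc, hs', Category.assoc,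
        IsIso.inv_hom_id, Category.comp_id, Category.id_comp])
    haveI : IsIso φK := isIso_of_mono_of_epi φK
    exact ⟨IsColimit.ofIsoColimit (colimit.isColimit _) (Cocone.ext (asIso φK) fun j => colimit.ι_desc _ j)⟩⟩

/-- A cokernel of colimit preserving functors preserves exact colimits. -/
theorem preserves_of_epi (hτ : ∀ X, Epi (τ.app X))
    (hex : ∀ X, (ShortComplex.mk (σ.app X) (τ.app X) (by rw [← NatTrans.comp_app, w]; rfl)).Exact)
    [PreservesColimitsOfShape J K] [PreservesColimitsOfShape J G] : PreservesColimitsOfShape J H where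
  preservesColimit {D} := ⟨fun {c} hc => by
    let φK : colimit (D ⋙ K) ⟶ K.obj c.pt := colimit.desc _ (K.mapCocone c)
    let φG : colimit (D ⋙ G) ⟶ G.obj c.pt := colimit.desc _ (G.mapCocone c)
    let φH : colimit (D ⋙ H) ⟶ H.obj c.pt := colimit.desc _ (H.mapCocone c)
    haveI : IsIso φK := inferInstanceAs (IsIso
      ((colimit.isColimit _).coconePointUniqueUpToIso (isColimitOfPreserves K hc)).hom)
    haveI : IsIso φG := inferInstanceAs (IsIso
      ((colimit.isColimit _).coconePointUniqueUpToIso (isColimitOfPreserves G hc)).hom)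
    let a : colimit (D ⋙ K) ⟶ colimit (D ⋙ G) := colim.map (Functor.whiskerLeft D σ)
    let b : colimit (D ⋙ G) ⟶ colimit (D ⋙ H) := colim.map (Functor.whiskerLeft D τ)
    have ha : a ≫ φG = φK ≫ σ.app c.pt := by
      ext j
      simp [a, φG, φK]
    have hb : b ≫ φH = φG ≫ τ.app c.pt := by
      ext j
      simp [b, φG, φH]
    haveI := hτ c.pt
    haveI : Epi (b ≫ φH) := hb ▸ inferInstance
    haveI : Epi φH := epi_of_epi b φH
    have hr : σ.app c.pt ≫ inv φG ≫ b = 0 := by
      have h0 : a ≫ b = 0 := by
        rw [← Functor.map_comp, whisker_comp_eq_zero σ τ w, Functor.map_zero]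
      rw [← cancel_epi φK, ← Category.assoc, ← ha, Category.assoc, IsIso.hom_inv_id_assoc, h0, comp_zero]
    obtain ⟨s, hs⟩ := CokernelCofork.IsColimit.desc' (hex c.pt).gIsCokernel _ hr
    have hs' : τ.app c.pt ≫ s = inv φG ≫ b := hs
    haveI : ∀ j, Epi ((Functor.whiskerLeft D τ).app j) := fun j => hτ (D.obj j)
    haveI : Epi (Functor.whiskerLeft D τ) := NatTrans.epi_of_epi_app _
    haveI : Epi b := inferInstanceAs (Epi ((colim : (J ⥤ A) ⥤ A).map _))
    haveI : Mono φH := mono_of_mono_fac (show φH ≫ s = 𝟙 _ by
      rw [← cancel_epi b, ← Category.assoc, hb, Category.assoc, hs', IsIso.hom_inv_id_assoc, Category.comp_id])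
    haveI : IsIso φH := isIso_of_mono_of_epi φH
    exact ⟨IsColimit.ofIsoColimit (colimit.isColimit _) (Cocone.ext (asIso φH) fun j => colimit.ι_desc _ j)⟩⟩

/-- Homology of complexes commutes with exact colimits. -/
theorem preservesColimitsOfShape_homologyFunctor {ι : Type*} (c : ComplexShape ι) (n : ι) :
    PreservesColimitsOfShape J (HomologicalComplex.homologyFunctor A c n) := by
  let ev := fun i : ι => HomologicalComplex.eval A c i
  let s₁ : HomologicalComplex.cyclesFunctor A c n ⟶ ev n :=
    { app := fun X => X.iCycles n, naturality := fun X Y f => HomologicalComplex.cyclesMap_i f n }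
  let t₁ : ev n ⟶ ev (c.next n) :=
    { app := fun X => X.d n (c.next n), naturality := fun X Y f => f.comm n (c.next n) }
  haveI : PreservesColimitsOfShape J (HomologicalComplex.cyclesFunctor A c n) :=
    preserves_of_mono s₁ t₁ (NatTrans.ext (funext fun X => X.iCycles_d n (c.next n)))
      (fun X => inferInstanceAs (Mono (X.iCycles n)))
      (fun X => ShortComplex.exact_of_f_is_kernel (ShortComplex.mk _ _ (X.iCycles_d n (c.next n)))
          (X.cyclesIsKernel n (c.next n) rfl))
  let s₂ : ev (c.prev n) ⟶ HomologicalComplex.cyclesFunctor A c n :=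
    { app := fun X => X.toCycles (c.prev n) n,
      naturality := fun X Y f => by
        refine (cancel_mono (Y.iCycles n)).1 ?_
        show (f.f (c.prev n) ≫ Y.toCycles (c.prev n) n) ≫ Y.iCycles n =
          (X.toCycles (c.prev n) n ≫ HomologicalComplex.cyclesMap f n) ≫ Y.iCycles n
        rw [Category.assoc, Category.assoc, HomologicalComplex.toCycles_i, HomologicalComplex.cyclesMap_i,
          HomologicalComplex.toCycles_i_assoc, f.comm] }
  let t₂ : HomologicalComplex.cyclesFunctor A c n ⟶ HomologicalComplex.homologyFunctor A c n :=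
    { app := fun X => X.homologyπ n,
      naturality := fun X Y f => (HomologicalComplex.homologyπ_naturality f n).symm }
  exact preserves_of_epi s₂ t₂ (NatTrans.ext (funext fun X => X.toCycles_comp_homologyπ (c.prev n) n))
    (fun X => inferInstanceAs (Epi (X.homologyπ n)))
    (fun X => ShortComplex.exact_of_g_is_cokernel (ShortComplex.mk _ _ (X.toCycles_comp_homologyπ (c.prev n) n))
        (X.homologyIsCokernel (c.prev n) n rfl))

end Groth.Agent.FiltDerived
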