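import Groth.Agent.FiltDerived.Homology

/-!
# Objectwise injective resolutions of bounded below diagrams of complexes
-/

set_option autoImplicit false
set_option linter.style.haveILetI false

universe w v v' u u'

open CategoryTheory CategoryTheory.Limits

namespace Groth.Agent.FiltDerived

variable {J : Type w} [SmallCategory J] {A : Type u} [Category.{v} A] [Abelian A] [EnoughInjectives A]
  [HasProducts.{w} A]

/-- The injective hull data of a diagram. -/
noncomputable abbrev hullPart (D : J ⥤ A) (l : J) : J ⥤ A :=
  (evaluationRightAdjoint A l).obj (Injective.under (D.obj l))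

/-- A diagram whose values are injective containing the given one. -/
noncomputable abbrev hull (D : J ⥤ A) : J ⥤ A := ∏ᶜ hullPart D

theorem injective_hull (D : J ⥤ A) : Injective (hull D) := by
  haveI : ∀ l, Injective (hullPart D l) := fun l =>
    Injective.injective_of_adjoint (evaluationAdjunctionLeft A l) _
  infer_instance

/-- The embedding into the hull. -/
noncomputable def toHull (D : J ⥤ A) : D ⟶ hull D :=
  Pi.lift fun l => (evaluationAdjunctionLeft A l).homEquiv D _ (Injective.ι (D.obj l))

theorem mono_toHull (D : J ⥤ A) : Mono (toHull D) := by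
  haveI : ∀ j, Mono ((toHull D).app j) := fun j => by
    have h := Adjunction.homEquiv_counit (evaluationAdjunctionLeft A j)
      (X := D) (Y := Injective.under (D.obj j)) (g := toHull D ≫ Pi.π (hullPart D) j)
    have h1 : toHull D ≫ Pi.π (hullPart D) j =
        (evaluationAdjunctionLeft A j).homEquiv D _ (Injective.ι (D.obj j)) := Pi.lift_π _ _
    rw [show ((evaluationAdjunctionLeft A j).homEquiv D _).symm (toHull D ≫ Pi.π (hullPart D) j) =
      Injective.ι (D.obj j) by rw [h1, Equiv.symm_apply_apply]] at h
    have h2 : (toHull D).app j ≫ (Pi.π (hullPart D) j).app j ≫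
        (evaluationAdjunctionLeft A j).counit.app (Injective.under (D.obj j)) = Injective.ι (D.obj j) := by
      rw [h, ← Category.assoc]
      rfl
    exact mono_of_mono_fac h2
  exact NatTrans.mono_of_mono_app _

theorem enoughInjectives_diagram : EnoughInjectives (J ⥤ A) :=
  ⟨fun D => ⟨{ J := hull D, injective := injective_hull D, f := toHull D, mono := mono_toHull D }⟩⟩

/-- Injective diagrams have injective values. -/
theorem injective_app (G : J ⥤ A) [Injective G] (j : J) : Injective (G.obj j) := by
  haveI := mono_toHull G
  let r : hull G ⟶ G := Injective.factorThru (𝟙 G) (toHull G)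
  have hr : toHull G ≫ r = 𝟙 G := Injective.comp_factorThru _ _
  haveI : ∀ l, Injective (((evaluation J A).obj j).obj (hullPart G l)) := fun l =>
    inferInstanceAs (Injective (∏ᶜ fun _ : j ⟶ l => Injective.under (G.obj l)))
  haveI : Injective ((hull G).obj j) :=
    Injective.of_iso (PreservesProduct.iso ((evaluation J A).obj j) (hullPart G)).symm inferInstance
  exact (Retract.mk ((toHull G).app j) (r.app j) (by rw [← NatTrans.comp_app, hr]; rfl)).injective

/-- A diagram of complexes as a complex of diagrams. -/
@[simps]
def complexOfDiagram (C : J ⥤ CochainComplex A ℤ) : CochainComplex (J ⥤ A) ℤ where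
  X i := C ⋙ HomologicalComplex.eval A (ComplexShape.up ℤ) i
  d i k := { app := fun j => (C.obj j).d i k, naturality := fun _ _ g => (C.map g).comm i k }
  shape i k h := NatTrans.ext (funext fun j => (C.obj j).shape i k h)
  d_comp_d' i k l _ _ := NatTrans.ext (funext fun j => (C.obj j).d_comp_d i k l)

/-- Bounded below diagrams of complexes have objectwise injective resolutions. -/
theorem exists_resolution (C : J ⥤ CochainComplex A ℤ) (n : ℤ) (hC : ∀ j, (C.obj j).IsGE n) :
    ∃ (I : J ⥤ CochainComplex A ℤ) (s : C ⟶ I),
      (∀ j, QuasiIso (s.app j)) ∧ (∀ j, (I.obj j).IsStrictlyGE n) ∧ ∀ j m, Injective ((I.obj j).X m) := by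
  haveI := enoughInjectives_diagram (J := J) (A := A)
  let tr : CochainComplex A ℤ ⥤ CochainComplex A ℤ := (ComplexShape.embeddingUpIntGE n).truncGEFunctor A
  let C' : J ⥤ CochainComplex A ℤ := C ⋙ tr
  haveI : ∀ j, CochainComplex.IsStrictlyGE (C'.obj j) n := fun j =>
    inferInstanceAs (CochainComplex.IsStrictlyGE ((C.obj j).truncGE n) n)
  let K := complexOfDiagram C'
  haveI : K.IsStrictlyGE n := by
    rw [CochainComplex.isStrictlyGE_iff]
    exact fun i hi => Functor.isZero _ fun j => (C'.obj j).isZero_of_isStrictlyGE n i hi
  obtain ⟨L, φ, hφ, hL, hLn⟩ := CochainComplex.Plus.modelCategoryQuillen.exists_quasiIso_injective K n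
  haveI := hφ
  haveI := hLn
  refine ⟨L.asFunctor,
    { app := fun j => (C.obj j).πTruncGE n ≫
        ({ f := fun i => (φ.f i).app j, comm' := fun i k _ => congrArg (fun z => z.app j) (φ.comm i k) } :
          C'.obj j ⟶ L.asFunctor.obj j)
      naturality := fun j k g => HomologicalComplex.hom_ext _ _ fun i => ?_ },
    fun j => ?_, fun j => ?_, fun j m => ?_⟩
  · have hπ := congrArg (fun z => z.f i)
      ((ComplexShape.Embedding.πTruncGENatTrans (ComplexShape.embeddingUpIntGE n) A).naturality (C.map g))
    refine (Category.assoc _ _ _).symm.trans ((congrArg (· ≫ (φ.f i).app k) hπ).trans ?_)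
    refine (Category.assoc _ _ _).trans ((congrArg (((C.obj j).πTruncGE n).f i ≫ ·) ((φ.f i).naturality g)).trans ?_)
    exact (Category.assoc _ _ _).symm
  · haveI : QuasiIso ((C.obj j).πTruncGE n) := ((C.obj j).quasiIso_πTruncGE_iff n).mpr (hC j)
    let ψ : C'.obj j ⟶ L.asFunctor.obj j :=
      { f := fun i => (φ.f i).app j, comm' := fun i k _ => congrArg (fun z => z.app j) (φ.comm i k) }
    haveI h1 : QuasiIso ((((evaluation J A).obj j).mapHomologicalComplex (ComplexShape.up ℤ)).map φ) := inferInstance
    haveI : QuasiIso ψ := h1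
    exact @quasiIso_comp _ _ _ _ _ _ _ _ ((C.obj j).πTruncGE n) ψ _ _ _ inferInstance h1
  · exact inferInstanceAs (CochainComplex.IsStrictlyGE
      ((((evaluation J A).obj j).mapHomologicalComplex (ComplexShape.up ℤ)).obj L) n)
  · haveI := hL m
    exact injective_app (L.X m) j

end Groth.Agent.FiltDerived
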